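import Groth.Agent.W7Rees.Main
import Groth.Agent.W7Cech.RpushSec
import Groth.Agent.CohQC.Push
import Groth.Agent.CohQC.Restrict
import Groth.Agent.CohQC.QuasiAffine
import Groth.Agent.CohQC.RpushModules
import Groth.Agent.H1Triv.Basic
import Groth.Agent.TMul.GlobGen
import Groth.Agent.SuppZero.Basic
import Groth.Agent.QC.Support
import Groth.Agent.QC.IdealMod
import Groth.Agent.KosTwist.Main
import Groth.Agent.PicSmooth.Curve
import Groth.Agent.PtBlow.Decomp
import Groth.Agent.RatBlow.Powers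
import Groth.Agent.LefDiv.Vanish
import Groth.Agent.RefStalk.Refl
import Groth.Agent.LefDiv.Restrict
import Groth.Agent.ModLeray1.Support
import Groth.Agent.PtBlow.Birat
import Groth.Agent.PtBlow.Rational
import Groth.Agent.S8914
import Groth.Prelude.Def_StMod
import Mathlib

/-!
For a proper birational morphism from a regular surface onto a surface, `R¹f_*O = 0` iff
`H¹(W, O_W) = 0` for all exceptional effective Cartier divisors `W`.
-/

set_option autoImplicit false
set_option backward.isDefEq.respectTransparency false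
set_option backward.isDefEq.respectTransparency.types false
set_option linter.style.haveILetI false
set_option maxHeartbeats 1000000

universe u

open CategoryTheory CategoryTheory.Limits AlgebraicGeometry TopologicalSpace Opposite
open Topology
open Groth.Agent.QC (res resO res_res)
open Groth.Agent.CohFinite (map_g_eq_zero_iff shortExact_toAb)
open Groth.Agent.W7Rees (qπ hm)

noncomputable section

namespace Groth.Agent.RatExc

variable {X Y : Scheme.{u}}

theorem topologicalKrullDim_le_zero {T : Type*} [TopologicalSpace T] [Subsingleton T] :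
    topologicalKrullDim T ≤ 0 := by
  haveI : Subsingleton (IrreducibleCloseds T) := ⟨fun C D => by
    ext z
    obtain ⟨c, hc⟩ := C.isIrreducible'.nonempty
    obtain ⟨d, hd⟩ := D.isIrreducible'.nonempty
    exact ⟨fun _ => Subsingleton.elim d z ▸ hd, fun _ => Subsingleton.elim c z ▸ hc⟩⟩
  exact Order.krullDim_nonpos_of_subsingleton

theorem dim_le_one_of_isClosed [IrreducibleSpace Y] (hdim : topologicalKrullDim Y ≤ 2) {Z : Set Y}
    (hZ : IsClosed Z) (hne : Z ≠ Set.univ) : topologicalKrullDim Z ≤ 1 := by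
  have hemb := hZ.isClosedEmbedding_subtypeVal
  refine iSup_le fun c => ?_
  by_contra hc
  have h2 : 2 ≤ c.length := by
    by_contra h
    exact hc (by exact_mod_cast (show c.length ≤ 1 by omega))
  let F : IrreducibleCloseds Z → IrreducibleCloseds Y := fun C =>
    ⟨Subtype.val '' (C : Set Z), C.isIrreducible'.image _ continuous_subtype_val.continuousOn,
      hemb.isClosedMap _ C.isClosed'⟩
  have hF : StrictMono F := fun C D h => by
    refine lt_of_le_of_ne (Set.image_mono h.le) fun e => h.ne ?_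
    exact IrreducibleCloseds.ext (Set.image_injective.2 Subtype.val_injective (congrArg IrreducibleCloseds.carrier e))
  let top : IrreducibleCloseds Y := ⟨Set.univ, IrreducibleSpace.isIrreducible_univ Y, isClosed_univ⟩
  have hlt : F c.last < top := lt_of_le_of_ne (Set.subset_univ _) fun e => hne (by
    refine Set.eq_univ_of_univ_subset ?_
    have e' : Subtype.val '' (c.last : Set Z) = Set.univ := congrArg IrreducibleCloseds.carrier e
    rw [← e']
    rintro _ ⟨z, -, rfl⟩
    exact z.2)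
  have h3 := Order.LTSeries.length_le_krullDim ((c.map F hF).snoc top hlt)
  have h4 : ((3 : ℕ) : WithBot ℕ∞) ≤ (2 : ℕ) := by
    refine le_trans ?_ ((h3.trans hdim).trans (by norm_num))
    exact_mod_cast (show 3 ≤ ((c.map F hF).snoc top hlt).length by simp; omega)
  exact absurd (by exact_mod_cast h4 : 3 ≤ 2) (by norm_num)

theorem subsingleton_preimage (f : Y ⟶ X) {U : X.Opens} [IsIso (f ∣_ U)] {y : X} (hy : y ∈ U) :
    Subsingleton ↥(f.base ⁻¹' {y}) := by
  refine ⟨fun a b => Subtype.ext ?_⟩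
  have ha : f a.1 = y := a.2
  have hb : f b.1 = y := b.2
  have h := (f ∣_ U).homeomorph.injective
    (a₁ := (⟨a.1, show f a.1 ∈ U by rw [ha]; exact hy⟩ : (f ⁻¹ᵁ U)))
    (a₂ := (⟨b.1, show f b.1 ∈ U by rw [hb]; exact hy⟩ : (f ⁻¹ᵁ U))) (Subtype.ext (by
      change ((f ∣_ U) _).1 = ((f ∣_ U) _).1
      rw [morphismRestrict_base_coe, morphismRestrict_base_coe]
      exact ha.trans hb.symm))
  exact congrArg (fun z : (f ⁻¹ᵁ U) => z.1) h

theorem hm_id {Z : Scheme.{u}} (M : Z.Modules) {p : ℕ} (z : Coh.HH Z M p) : hm (𝟙 M) p z = z := by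
  simp [hm]

/-- The cohomology of `O/I` on an open containing its support. -/
theorem quotMod_restrict (I : Y.IdealSheafData) (V : Y.Opens) (hV : (I.support : Set Y) ⊆ V) (p : ℕ) :
    Subsingleton (Coh.HH Y (ClSub.quotMod I) p) ↔
      Subsingleton (Coh.HH V.toScheme ((ClSub.quotMod I).restrict V.ι) p) := by
  haveI : (Coh.structureModule I.subscheme).IsQuasicoherent := StMod.isQCoh_structureModule _
  have heq : I.subschemeι ⁻¹ᵁ V = I.subschemeι ⁻¹ᵁ ⊤ := top_le_iff.1 fun z _ => hV (by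
    rw [← I.range_subschemeι]
    exact ⟨z, rfl⟩)
  obtain ⟨e1⟩ := CohQC.hu_push_affine I.subschemeι (Coh.structureModule I.subscheme) ⊤ p
  obtain ⟨e2⟩ := CohQC.hu_push_affine I.subschemeι (Coh.structureModule I.subscheme) V p
  rw [heq] at e2
  obtain ⟨e3⟩ := CohQC.hu_restrict (ClSub.quotMod I) V p
  let t := SiteCoh.huTerminalEquiv (Opens.grothendieckTopology Y) isTerminalTop (Coh.toAb (ClSub.quotMod I)) p
  have e12 : CohSite.HU (Coh.toAb (ClSub.quotMod I)) p (⊤ : Y.Opens) ≃+
      CohSite.HU (Coh.toAb (ClSub.quotMod I)) p V := e1.symm.trans e2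
  exact ((t.toEquiv.trans e12.toEquiv).trans e3.toEquiv).subsingleton_congr

theorem app_qπ_eq_zero {A : Type u} [CommRing A] {Z : Scheme.{u}} [Z.Over (Spec (CommRingCat.of A))]
    (F : Z.Modules) (J : Ideal A) (W : Z.Opens) (a : A) (ha : a ∈ J) (z : Γ(F, W)) :
    (qπ F J).app W (RatBlow.el (Z ↘ Spec (CommRingCat.of A)) W a • z) = 0 := by
  have h1 : Formal.smulMod A F a ≫ qπ F J = 0 := by
    rw [show Formal.smulMod A F a = Sigma.ι (fun _ : J => F) ⟨a, ha⟩ ≫ Formal.smulFamily J F by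
      simp [Formal.smulFamily], Category.assoc, cokernel.condition, comp_zero]
  exact congr(Scheme.Modules.Hom.app $h1 W z)

/-- Vanishing on the open over an affine neighbourhood. -/
theorem exists_smul_eq_zero {A : Type u} [CommRing A] [IsNoetherianRing A] {Z : Scheme.{u}}
    [Z.Over (Spec (CommRingCat.of A))] [IsProper (Z ↘ Spec (CommRingCat.of A))] (m : Ideal A)
    (h : ∀ k, ∃ (K : Z.Modules) (ι : K ⟶ Coh.structureModule Z), Function.Surjective (hm ι 1) ∧
      ∀ x, hm (ι ≫ qπ (Coh.structureModule Z) (m ^ k)) 1 x = 0)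
    (x : Coh.HH Z (Coh.structureModule Z) 1) : ∃ r ∈ m, r • x = x := by
  haveI : IsLocallyNoetherian Z := LocallyOfFiniteType.isLocallyNoetherian (Z ↘ Spec (CommRingCat.of A))
  have hO : Coh.IsCoh (Coh.structureModule Z) := RefStalk.isCoh_structureModule (X := Z)
  haveI := CohFinite.finite_proper Z (Coh.structureModule Z) hO 1 (A := A)
  obtain ⟨c, hc⟩ := W7Rees.exists_ker_le_pow m hO 1
  have hx : x ∈ (⨅ n : ℕ, m ^ n • ⊤ : Submodule A (Coh.HH Z (Coh.structureModule Z) 1)) := by
    refine Submodule.mem_iInf _ |>.2 fun n => ?_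
    obtain ⟨K, ι, hι, h0⟩ := h (n + c)
    obtain ⟨y, rfl⟩ := hι x
    have h1 := hc (n + c) (hm ι 1 y) ((W7Rees.hm_comp ι _ 1 y).symm.trans (h0 y))
    rwa [Nat.add_sub_cancel] at h1
  obtain ⟨r, hr⟩ := (m.mem_iInf_smul_pow_eq_bot_iff x).1 hx
  exact ⟨r, r.2, hr⟩

/-- A map with image supported on a finite set of closed points is zero on `H¹`. -/
theorem hm_eq_zero_of_finite {Z : Scheme.{u}} [NoetherianSpace Z] {M N : Z.Modules} (φ : M ⟶ N) {S : Set Z}
    (hSf : S.Finite) (hS : ∀ s ∈ S, IsClosed ({s} : Set Z))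
    (hφ : ∀ x ∉ S, ∃ W : Z.Opens, x ∈ W ∧ ∀ (V : Z.Opens), V ≤ W → IsAffineOpen V → ∀ t, φ.app V t = 0)
    (x : Coh.HH Z M 1) : hm φ 1 x = 0 := by
  have hSc : IsClosed S := by
    rw [← Set.biUnion_of_singleton S]
    exact hSf.isClosed_biUnion hS
  have hdim : topologicalKrullDim S ≤ 0 := by
    haveI := hSf.to_subtype
    haveI : T1Space S := ⟨fun s => by
      have : IsClosed (Subtype.val ⁻¹' ({(s : Z)} : Set Z) : Set S) := (hS s s.2).preimage continuous_subtype_val
      rwa [show (Subtype.val ⁻¹' ({(s : Z)} : Set Z) : Set S) = {s} from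
        Set.ext fun t => by simp [Subtype.ext_iff]] at this⟩
    haveI : DiscreteTopology S := inferInstance
    exact topologicalKrullDim_zero_of_discreteTopology S
  have hsupp : ∀ z ∉ S, z ∉ CohB1.support (Limits.image φ) := fun z hz => by
    obtain ⟨W, hzW, hW⟩ := hφ z hz
    refine (QC.notMem_support_iff z).2 fun U hzU s => ?_
    obtain ⟨V, hVU, hzV, t, ht⟩ := TMul.exists_app_eq_of_epi (factorThruImage φ) s hzU
    obtain ⟨V', hV', hzV', hV'le⟩ := exists_isAffineOpen_mem_and_subset (x := z) (U := V ⊓ W) ⟨hzV, hzW⟩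
    have hle : V' ≤ V := fun w hw => (hV'le hw).1
    refine ⟨V', hle.trans hVU, hzV', ?_⟩
    refine QC.app_injective_of_mono (Limits.image.ι φ) V' ?_
    rw [map_zero, show res _ (hle.trans hVU) s = res _ hle (res _ hVU s) from (res_res _ _ _ _).symm, ← ht,
      ← QC.app_res]
    have hf : (Limits.image.ι φ).app V ((factorThruImage φ).app V t) = φ.app V t :=
      congr(Scheme.Modules.Hom.app $(Limits.image.fac φ) V t)
    rw [hf, QC.app_res]
    exact hW V' (fun w hw => (hV'le hw).2) hV' (res M hle t)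
  haveI := SuppZero.subsingleton_hh_of_supported hSc hdim (Limits.image φ) hsupp 1 le_rfl
  rw [show φ = factorThruImage φ ≫ Limits.image.ι φ from (Limits.image.fac φ).symm, W7Rees.hm_comp,
    Subsingleton.elim (hm (factorThruImage φ) 1 x) 0, map_zero]

theorem restrict_seq (I : Y.IdealSheafData) (U : Y.Opens) :
    ((ShortComplex.mk (ClSub.idealModι I) (ClSub.toSubscheme I) (kernel.condition _)).map
      (Scheme.Modules.restrictFunctor U.ι)).ShortExact :=
  (CurveRR.ideal_shortExact I).map_of_exact _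

variable (f : Y ⟶ X) [IsProper f] [IsIntegral Y] {P : X} (hPc : IsClosed ({P} : Set X))
  [hiso : IsIso (f ∣_ ⟨({P} : Set X)ᶜ, hPc.isOpen_compl⟩)]

include hiso

theorem fibre_dim (hdimX : topologicalKrullDim X = 2) (hdimY : topologicalKrullDim Y = 2) (y : X) :
    topologicalKrullDim ↥(f.fiber y) ≤ (1 : ℕ) := by
  have key : topologicalKrullDim ↥(f.base ⁻¹' {y}) ≤ 1 := by
    by_cases hy : y = P
    · refine dim_le_one_of_isClosed hdimY.le ((hy ▸ hPc : IsClosed ({y} : Set X)).preimage f.continuous) fun he => ?_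
      obtain ⟨z, hz⟩ : ∃ z : X, z ≠ P := by
        by_contra hne
        push Not at hne
        haveI : Subsingleton X := ⟨fun a b => (hne a).trans (hne b).symm⟩
        have := topologicalKrullDim_le_zero (T := X)
        rw [hdimX] at this
        exact absurd this (by decide)
      obtain ⟨w, hw⟩ := (f ∣_ ⟨({P} : Set X)ᶜ, hPc.isOpen_compl⟩).surjective ⟨z, hz⟩
      have h1 : f w.1 = z := by
        have := congrArg Subtype.val hw
        rwa [morphismRestrict_base_coe] at this
      have h2 : f w.1 = y := (he.symm ▸ Set.mem_univ w.1 : w.1 ∈ f.base ⁻¹' {y})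
      exact hz (h1.symm.trans (h2.trans hy))
    · haveI := subsingleton_preimage f (U := ⟨({P} : Set X)ᶜ, hPc.isOpen_compl⟩) (y := y) hy
      exact topologicalKrullDim_le_zero.trans zero_le_one
  exact le_trans (le_of_eq ((f.fiberHomeo y).isHomeomorph.topologicalKrullDim_eq _)) key

theorem fibre_dim_affine (hdimX : topologicalKrullDim X = 2) (hdimY : topologicalKrullDim Y = 2)
    {V : X.Opens} (hV : IsAffineOpen V) (M : Y.Modules) (hM : Coh.IsQCoh (M.restrict (f ⁻¹ᵁ V).ι)) :
    Subsingleton (Coh.HH (f ⁻¹ᵁ V).toScheme (M.restrict (f ⁻¹ᵁ V).ι) 2) := by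
  refine PicSmooth.subsingleton_hh_of_affine_base ((f ∣_ V) ≫ hV.isoSpec.hom) 1 (fun q => ?_) _ hM 2 one_lt_two
  let q' : X := (hV.isoSpec.inv q).1
  refine le_trans ?_ (fibre_dim f hPc hdimX hdimY q')
  let g := (f ∣_ V) ≫ hV.isoSpec.hom
  have hmem : ∀ z : ↥(g.fiber q), f ((g.fiberHomeo q z).1).1 = q' := fun z => by
    have h1 : g ((g.fiberHomeo q z).1) = q := (g.fiberHomeo q z).2
    refine Eq.trans ?_ (congrArg (fun u => (hV.isoSpec.inv u).1) h1)
    change f _ = (hV.isoSpec.inv (hV.isoSpec.hom ((f ∣_ V) _))).1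
    rw [← Scheme.Hom.comp_apply hV.isoSpec.hom hV.isoSpec.inv, Iso.hom_inv_id]
    exact (morphismRestrict_base_coe f V _).symm
  let j : ↥(g.fiber q) → ↥(f.fiber q') := fun z =>
    (f.fiberHomeo q').symm ⟨((g.fiberHomeo q z).1).1, hmem z⟩
  refine IsInducing.topologicalKrullDim_le (f := j) ((f.fiberHomeo q').symm.isInducing.comp ?_)
  refine (IsInducing.subtypeVal.of_comp_iff).1 ?_
  have h2 : IsInducing (fun z => ((g.fiberHomeo q z).1).1) :=
    IsInducing.subtypeVal.comp (IsInducing.subtypeVal.comp (g.fiberHomeo q).isInducing)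
  exact h2

/-- `R¹ f_* O = 0` gives the vanishing on every exceptional divisor. -/
theorem subsingleton_of_isZero (hdimX : topologicalKrullDim X = 2) (hdimY : topologicalKrullDim Y = 2)
    [IsLocallyNoetherian X] (h : IsZero ((Coh.RpushAb f 1).obj (Coh.toAb (Coh.structureModule Y))))
    (W : Y.IdealSheafData) (hW : (W.support : Set Y) ⊆ f.base ⁻¹' {P}) :
    Subsingleton (Coh.HH Y (ClSub.quotMod W) 1) := by
  haveI := RPushQC.hasInjectiveResolutions Y
  haveI : IsLocallyNoetherian Y := LocallyOfFiniteType.isLocallyNoetherian f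
  obtain ⟨V, hV, hPV, -⟩ := exists_isAffineOpen_mem_and_subset (x := P) (U := (⊤ : X.Opens)) trivial
  refine (quotMod_restrict W (f ⁻¹ᵁ V) (fun y hy => by
    have : f y = P := hW hy
    show f y ∈ V
    rw [this]; exact hPV) 1).2 ?_
  let Z := (f ⁻¹ᵁ V).toScheme
  letI : Z.Over (Spec (CommRingCat.of Γ(X, V))) := ⟨(f ∣_ V) ≫ hV.isoSpec.hom⟩
  obtain ⟨e⟩ := W7Cech.nonempty_rpush_sections f (Coh.structureModule Y) (StMod.isQCoh_structureModule Y) 1 hV
  obtain ⟨ε⟩ := CohQC.toAb_rpush_iso f (Coh.structureModule Y) 1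
  have h1 : Subsingleton Γ((Coh.Rpush f 1).obj (Coh.structureModule Y), V) :=
    AddCommGrpCat.subsingleton_of_isZero (((sheafSections _ _).obj (op V)).map_isZero (h.of_iso ε))
  haveI : Subsingleton (Coh.HH Z ((Coh.structureModule Y).restrict (f ⁻¹ᵁ V).ι) 1) := e.symm.toEquiv.subsingleton
  haveI : ((ClSub.idealMod W).restrict (f ⁻¹ᵁ V).ι).IsQuasicoherent :=
    QC.isQCoh_restrict (hM := (CurveRR.isCoh_idealMod W).1.1) _
  have h2 := fibre_dim_affine f hPc hdimX hdimY hV (ClSub.idealMod W) inferInstance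
  exact @Function.Surjective.subsingleton _ _ _
    (show Subsingleton (Coh.HH Z ((Coh.structureModule Y).restrict (f ⁻¹ᵁ V).ι) 1) from inferInstance)
    (H1Triv.surjective_of_h_next Γ(X, V) (restrict_seq W (f ⁻¹ᵁ V)) 1 h2)

omit [IsProper f] [IsIntegral Y] hiso in
theorem el_ι {V : X.Opens} (hV : IsAffineOpen V) (W : (f ⁻¹ᵁ V).toScheme.Opens) (a : Γ(X, V)) :
    RatBlow.el ((f ∣_ V) ≫ hV.isoSpec.hom) W a =
      f.appLE V ((f ⁻¹ᵁ V).ι ''ᵁ W) ((f ⁻¹ᵁ V).ι_image_le W) a := by
  simp [RatBlow.el, Coh.toGlobal, QC.resO, IsAffineOpen.isoSpec_hom, morphismRestrict_appTop,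
    Scheme.Opens.toSpecΓ, Scheme.Hom.appLE]
  simp only [← CommRingCat.comp_apply, Scheme.Hom.naturality, Scheme.Hom.naturality_assoc, ← Functor.map_comp, Category.assoc]
  rfl

/-- Vanishing on every exceptional divisor gives `R¹ f_* O = 0`. -/
theorem isZero_of_subsingleton (hdimY : topologicalKrullDim Y = 2)
    (hregY : ∀ y : Y, IsRegularLocalRing (Y.presheaf.stalk y)) [IsLocallyNoetherian X] [CompactSpace X]
    (hne : ∃ z : X, z ≠ P)
    (h : ∀ W : Y.IdealSheafData, PicF.IsInvertible (ClSub.idealMod W) → (W.support : Set Y).Nonempty →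
      (W.support : Set Y) ⊆ f.base ⁻¹' {P} → Subsingleton (Coh.HH Y (ClSub.quotMod W) 1)) :
    IsZero ((Coh.RpushAb f 1).obj (Coh.toAb (Coh.structureModule Y))) := by
  classical
  haveI := RPushQC.hasInjectiveResolutions Y
  haveI : IsLocallyNoetherian Y := LocallyOfFiniteType.isLocallyNoetherian f
  haveI : CompactSpace Y := QuasiCompact.compactSpace_of_compactSpace f
  haveI : AlgebraicGeometry.IsNoetherian Y := ⟨⟩
  let U₀ : X.Opens := ⟨({P} : Set X)ᶜ, hPc.isOpen_compl⟩
  let 𝔞 : Y.IdealSheafData := (Scheme.IdealSheafData.vanishingIdeal ⟨{P}, hPc⟩).comap f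
  have hsupp : (𝔞.support : Set Y) = f.base ⁻¹' {P} := by
    rw [Scheme.IdealSheafData.support_comap]
    change f.base ⁻¹' ((Scheme.IdealSheafData.vanishingIdeal ⟨{P}, hPc⟩).support : Set X) = _
    simp
  have h𝔞 : 𝔞 ≠ ⊥ := fun e => by
    obtain ⟨z, hz⟩ := hne
    obtain ⟨w, hw⟩ := (f ∣_ U₀).surjective ⟨z, hz⟩
    have h1 : f w.1 = z := by
      have := congrArg Subtype.val hw
      rwa [morphismRestrict_base_coe] at this
    have h2 : w.1 ∈ f.base ⁻¹' {P} := by rw [← hsupp, e, Scheme.IdealSheafData.support_bot]; trivial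
    exact hz (h1.symm.trans h2)
  obtain ⟨J, L, hJL, hLc, hJfin, hJpt, -⟩ := PtBlow.exists_cartier_mul_finite Y hregY hdimY.le 𝔞 h𝔞
  obtain ⟨ε⟩ := CohQC.toAb_rpush_iso f (Coh.structureModule Y) 1
  refine IsZero.of_iso ?_ ε.symm
  let R := (Coh.Rpush f 1).obj (Coh.structureModule Y)
  -- affine opens avoiding `P`
  have hoff : ∀ {V : X.Opens}, IsAffineOpen V → P ∉ V → ∀ s : Γ(R, V), s = 0 := by
    intro V hV hPV s
    letI : (f ⁻¹ᵁ V).toScheme.Over (Spec (CommRingCat.of Γ(X, V))) := ⟨(f ∣_ V) ≫ hV.isoSpec.hom⟩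
    obtain ⟨e⟩ := W7Cech.nonempty_rpush_sections f (Coh.structureModule Y) (StMod.isQCoh_structureModule Y) 1 hV
    haveI : IsIso (f ∣_ V) := ModLeray1.isIso_restrict_of_le_isoLocus f
      (le_trans (show V ≤ U₀ from fun v hv (hvP : v ∈ ({P} : Set X)) => hPV (Set.mem_singleton_iff.1 hvP ▸ hv))
        (PtBlow.le_isoLocus hiso))
    haveI : IsAffine (f ⁻¹ᵁ V).toScheme := by
      haveI : IsAffine V.toScheme := hV
      exact IsAffine.of_isIso (f ∣_ V)
    haveI : ((Coh.structureModule Y).restrict (f ⁻¹ᵁ V).ι).IsQuasicoherent :=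
      QC.isQCoh_restrict (hM := StMod.isQCoh_structureModule Y) _
    haveI := PtBlow.subsingleton_hh_of_isAffine ((Coh.structureModule Y).restrict (f ⁻¹ᵁ V).ι)
    exact e.toEquiv.subsingleton.elim _ _
  have hall : ∀ (U : X.Opens) (s : Γ(R, U)), s = 0 := by
    intro U s
    refine QC.section_eq_of_locally fun v hv => ?_
    by_cases hvP : v = P
    swap
    · obtain ⟨V, hV, hvV, hVle⟩ := exists_isAffineOpen_mem_and_subset (x := v) (U := U ⊓ U₀) ⟨hv, hvP⟩
      refine ⟨V, fun w hw => (hVle hw).1, hvV, ?_⟩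
      rw [hoff hV (fun hP => (hVle hP).2 rfl) (res R _ s)]
      simp
    subst hvP
    obtain ⟨V, hV, hPV, hVle⟩ := exists_isAffineOpen_mem_and_subset (x := v) (U := U) hv
    let Z := (f ⁻¹ᵁ V).toScheme
    letI : Z.Over (Spec (CommRingCat.of Γ(X, V))) := ⟨(f ∣_ V) ≫ hV.isoSpec.hom⟩
    haveI : IsProper (Z ↘ Spec (CommRingCat.of Γ(X, V))) := inferInstanceAs (IsProper ((f ∣_ V) ≫ hV.isoSpec.hom))
    haveI : IsNoetherianRing Γ(X, V) := IsLocallyNoetherian.component_noetherian ⟨V, hV⟩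
    haveI : NoetherianSpace Z := (f ⁻¹ᵁ V).ι.isOpenEmbedding.isInducing.noetherianSpace
    let m : Ideal Γ(X, V) := (hV.primeIdealOf ⟨v, hPV⟩).asIdeal
    have hm' : (Scheme.IdealSheafData.vanishingIdeal ⟨{v}, hPc⟩).ideal ⟨V, hV⟩ = m := by
      rw [Scheme.IdealSheafData.vanishingIdeal_ideal]
      have h1 : hV.fromSpec ⁻¹' ({v} : Set X) = {hV.primeIdealOf ⟨v, hPV⟩} := by
        ext q
        simp only [Set.mem_preimage, Set.mem_singleton_iff]
        constructor
        · intro hq
          refine hV.fromSpec.isOpenEmbedding.injective ?_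
          rw [hq, hV.fromSpec_primeIdealOf]
        · rintro rfl
          exact hV.fromSpec_primeIdealOf ⟨v, hPV⟩
      change PrimeSpectrum.vanishingIdeal (hV.fromSpec ⁻¹' ({v} : Set X)) = m
      rw [h1, PrimeSpectrum.vanishingIdeal_singleton]
    have key : ∀ x : Coh.HH Z (Coh.structureModule Z) 1, ∃ r ∈ m, r • x = x := by
      refine fun x => exists_smul_eq_zero m (fun k => ?_) x
      have hLk : BlowUp.IsEffCartierIdeal (L ^ (k + 1)) := (LefDiv.idealMod_pow hLc k).1
      have hLv : (L.support : Set Y) ⊆ f.base ⁻¹' {v} := by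
        rw [← hsupp, hJL, Scheme.IdealSheafData.support_mul]
        exact Set.subset_union_right
      have hLks : ((L ^ (k + 1)).support : Set Y) ⊆ f.base ⁻¹' {v} := by
        rw [Scheme.IdealSheafData.support_pow L (k + 1) (Nat.succ_ne_zero k)]
        exact hLv
      have hq1 : Subsingleton (Coh.HH Y (ClSub.quotMod (L ^ (k + 1))) 1) := by
        by_cases hn : ((L ^ (k + 1)).support : Set Y).Nonempty
        · exact h _ ((Groth.Agent.S8914.result _).2 hLk) hn hLks
        · exact SuppZero.subsingleton_hh_of_supported (Z := ∅) isClosed_empty topologicalKrullDim_le_zero _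
            (fun y _ hy => hn ⟨y, CurveRR.support_quotMod _ hy⟩) 1 le_rfl
      let θ : (Coh.structureModule Y).restrict (f ⁻¹ᵁ V).ι ⟶ Coh.structureModule Z :=
        inv (LefDiv.oneU (f ⁻¹ᵁ V))
      let ι := (Scheme.Modules.restrictFunctor (f ⁻¹ᵁ V).ι).map (ClSub.idealModι (L ^ (k + 1))) ≫ θ
      refine ⟨_, ι, fun z => ?_, fun z => ?_⟩
      · obtain ⟨w, hw⟩ : ∃ w, hm θ 1 w = z := ⟨hm (inv θ) 1 z, by
          rw [← W7Rees.hm_comp, IsIso.inv_hom_id]
          exact hm_id _ z⟩
        have h0 : Subsingleton (Coh.HH Z ((ClSub.quotMod (L ^ (k + 1))).restrict (f ⁻¹ᵁ V).ι) 1) :=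
          (quotMod_restrict _ (f ⁻¹ᵁ V) (fun y hy => by
            show f y ∈ V
            rw [show f y = v from hLks hy]; exact hPV) 1).1 hq1
        obtain ⟨u, hu⟩ := (map_g_eq_zero_iff (shortExact_toAb (restrict_seq (L ^ (k + 1)) (f ⁻¹ᵁ V))) 1 w).1
          (h0.elim _ _)
        refine ⟨u, ?_⟩
        rw [W7Rees.hm_comp, ← hw]
        exact congrArg (hm θ 1) hu
      · refine hm_eq_zero_of_finite _ (S := (f ⁻¹ᵁ V).ι.base ⁻¹' (J.support : Set Y))
          (hJfin.preimage (f ⁻¹ᵁ V).ι.isOpenEmbedding.injective.injOn) (fun s hs => ?_) (fun w hw => ?_) z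
        · have := (hJpt _ hs).1.preimage (f ⁻¹ᵁ V).ι.continuous
          rwa [show (f ⁻¹ᵁ V).ι ⁻¹' {(f ⁻¹ᵁ V).ι s} = {s} from
            Set.preimage_image_eq {s} (f ⁻¹ᵁ V).ι.isOpenEmbedding.injective ▸ by simp] at this
        refine ⟨(f ⁻¹ᵁ V).ι ⁻¹ᵁ J.support.compl, hw, fun W hW hWa t => ?_⟩
        let W' : Y.Opens := (f ⁻¹ᵁ V).ι ''ᵁ W
        have hW'a : IsAffineOpen W' := hWa.image_of_isOpenImmersion _
        have hWV : W' ≤ f ⁻¹ᵁ V := (f ⁻¹ᵁ V).ι_image_le W
        have hdis : Disjoint (W' : Set Y) (J.support : Set Y) := by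
          rw [Set.disjoint_left]
          rintro _ ⟨q, hq, rfl⟩
          exact hW hq
        have hJtop : J.ideal ⟨W', hW'a⟩ = ⊤ := by
          by_contra hne'
          obtain ⟨M, hM, hle⟩ := Ideal.exists_le_maximal _ hne'
          let q : Spec Γ(Y, W') := ⟨M, hM.isPrime⟩
          have hq : hW'a.fromSpec q ∈ W' := by
            have : hW'a.fromSpec q ∈ Set.range hW'a.fromSpec := ⟨q, rfl⟩
            rwa [hW'a.range_fromSpec] at this
          refine Set.disjoint_left.1 hdis hq ?_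
          have h2 : q ∈ PrimeSpectrum.zeroLocus (J.ideal ⟨W', hW'a⟩ : Set Γ(Y, W')) := hle
          have h3 := J.coe_support_inter ⟨W', hW'a⟩
          exact ((Set.ext_iff.1 h3 _).2 ((Set.ext_iff.1 (hW'a.fromSpec_image_zeroLocus _) _).1 ⟨q, h2, rfl⟩)).1
        let σ : Γ(ClSub.idealMod (L ^ (k + 1)), W') := t
        let s₀ : Γ(Y, W') := (ClSub.idealModι (L ^ (k + 1))).app W' σ
        have hs₀ : s₀ ∈ (L ^ (k + 1)).ideal ⟨W', hW'a⟩ :=
          (QC.mem_range_idealModι_affine _ ⟨W', hW'a⟩ s₀).1 ⟨σ, rfl⟩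
        have hle' : (L ^ (k + 1)).ideal ⟨W', hW'a⟩ ≤ (m ^ k).map (f.appLE V W' hWV).hom := by
          rw [Scheme.IdealSheafData.ideal_pow, Pi.pow_apply]
          refine le_trans (Ideal.pow_le_pow_right (Nat.le_succ k)) ?_
          have : L.ideal ⟨W', hW'a⟩ = m.map (f.appLE V W' hWV).hom := by
            rw [← hm', ← FpqcDescent.ideal_comap_appLE _ f ⟨V, hV⟩ ⟨W', hW'a⟩ hWV]
            change _ = 𝔞.ideal _
            rw [hJL, Scheme.IdealSheafData.ideal_mul, Pi.mul_apply, hJtop, Ideal.top_mul]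
          rw [this, Ideal.map_pow]
        change (qπ (Coh.structureModule Z) (m ^ k)).app W
          (θ.app W (((Scheme.Modules.restrictFunctor (f ⁻¹ᵁ V).ι).map (ClSub.idealModι (L ^ (k + 1)))).app W t)) = 0
        let s₁ : Γ(Z, W) := θ.app W (((Scheme.Modules.restrictFunctor (f ⁻¹ᵁ V).ι).map
          (ClSub.idealModι (L ^ (k + 1)))).app W t)
        have hs₁ : s₁ ∈ (m ^ k).map (RatBlow.el (Z ↘ Spec (CommRingCat.of Γ(X, V))) W) := by
          have h4 : s₁ = s₀ := by
            have h5 : (LefDiv.oneU (f ⁻¹ᵁ V)).app W s₁ = ((Scheme.Modules.restrictFunctor (f ⁻¹ᵁ V).ι).map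
                (ClSub.idealModι (L ^ (k + 1)))).app W t :=
              congr(Scheme.Modules.Hom.app $(IsIso.inv_hom_id (LefDiv.oneU (f ⁻¹ᵁ V))) W _)
            rw [LefDiv.oneU_app, Scheme.Opens.ι_appIso] at h5
            exact h5
          rw [show RatBlow.el (Z ↘ Spec (CommRingCat.of Γ(X, V))) W = (f.appLE V W' hWV).hom from
            RingHom.ext fun a => el_ι f hV W a, h4]
          exact hle' hs₀
        change (qπ (Coh.structureModule Z) (m ^ k)).app W s₁ = 0
        (clear_value s₁)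
        refine Submodule.span_induction (p := fun c _ => (qπ (Coh.structureModule Z) (m ^ k)).app W
          (show Γ(Coh.structureModule Z, W) from c) = 0) ?_ ?_ ?_ ?_ hs₁
        · rintro _ ⟨a, ha, rfl⟩
          have := app_qπ_eq_zero (Coh.structureModule Z) (m ^ k) W a ha (show Γ(Coh.structureModule Z, W) from (1 : Γ(Z, W)))
          refine Eq.trans (congrArg _ ?_) this
          exact (mul_one (RatBlow.el (Z ↘ Spec (CommRingCat.of Γ(X, V))) W a)).symm
        · exact map_zero _
        · intro a b _ _ ha hb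
          exact (map_add _ _ _).trans (by rw [ha, hb, add_zero])
        · intro a b _ hb
          exact (TMul.app_smul _ a _).trans (by rw [hb, smul_zero])
    obtain ⟨e⟩ := W7Cech.nonempty_rpush_sections f (Coh.structureModule Y) (StMod.isQCoh_structureModule Y) 1 hV
    let s' : Γ(R, V) := res R hVle s
    obtain ⟨r, hr, hrs⟩ : ∃ r ∈ m, r • s' = s' := by
      let θ : (Coh.structureModule Y).restrict (f ⁻¹ᵁ V).ι ≅ Coh.structureModule Z := (asIso (LefDiv.oneU (f ⁻¹ᵁ V))).symm
      obtain ⟨r, hr, hrx⟩ := key (hm θ.hom 1 (e s'))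
      refine ⟨r, hr, e.injective ?_⟩
      rw [map_smul]
      refine Function.LeftInverse.injective (g := hm θ.inv 1) (f := hm θ.hom 1) (fun z => ?_) ?_
      · rw [← W7Rees.hm_comp, θ.hom_inv_id]
        exact hm_id _ z
      · refine Eq.trans ?_ hrx
        exact map_smul (CohFinite.hhMap Γ(X, V) θ.hom 1) r (e s')
    let D := X.basicOpen (1 - r)
    have hvD : v ∈ D := by
      rw [X.mem_basicOpen _ v hPV]
      have h1 : v ∉ X.basicOpen r := by
        intro hh
        have hh' : hV.primeIdealOf ⟨v, hPV⟩ ∈ hV.fromSpec ⁻¹ᵁ X.basicOpen r := by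
          show hV.fromSpec _ ∈ X.basicOpen r
          rw [hV.fromSpec_primeIdealOf]
          exact hh
        rw [hV.fromSpec_preimage_basicOpen] at hh'
        exact hh' hr
      rw [map_sub, map_one]
      exact IsLocalRing.isUnit_one_sub_self_of_mem_nonunits _ fun hu => h1 ((X.mem_basicOpen _ v hPV).2 hu)
    refine ⟨D, (X.basicOpen_le _).trans hVle, hvD, ?_⟩
    have h0 : (1 - r) • s' = 0 := by rw [sub_smul, one_smul, hrs, sub_self]
    obtain ⟨w, hw⟩ := (show IsUnit (resO X (X.basicOpen_le (1 - r)) (1 - r)) from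
      RingedSpace.isUnit_res_basicOpen X.toRingedSpace (1 - r)).exists_left_inv
    have h1 : resO X (X.basicOpen_le (1 - r)) (1 - r) • res R (X.basicOpen_le (1 - r)) s' = 0 := by
      rw [← QC.res_smul, h0, map_zero]
    have h2 := congrArg (w • ·) h1
    simp only [smul_smul, hw, one_smul, smul_zero, s', res_res] at h2
    rw [h2]
    simp
  refine Functor.map_isZero (SheafOfModules.toSheaf.{u} X.ringCatSheaf) ((IsZero.iff_id_eq_zero R).2 ?_)
  refine Scheme.Modules.hom_ext _ _ fun U => ?_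
  ext s
  exact (hall U s).trans rfl

end Groth.Agent.RatExc
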